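import Groth.Prelude.Def_QuotSh
import Mathlib.AlgebraicGeometry.Sites.Representability
import Mathlib.AlgebraicGeometry.Sites.Fpqc

/-! Representability of a functor on schemes over a base from an open cover by representable pieces. -/

set_option autoImplicit false
set_option linter.style.haveILetI false
set_option backward.isDefEq.respectTransparency.types false

universe u

open CategoryTheory CategoryTheory.Limits AlgebraicGeometry Opposite TopologicalSpace

noncomputable section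

namespace Groth.Agent.OverRep16

variable {S : Scheme.{u}} (F : (Over S)ᵒᵖ ⥤ Type u)

/-- The inclusion of a member of an open cover. -/
abbrev piece {T : Over S} (𝒰 : T.left.OpenCover) (k : 𝒰.I₀) : Over.mk (𝒰.f k ≫ T.hom) ⟶ T :=
  Over.homMk (𝒰.f k) rfl

/-- Sections glue along open covers. -/
def IsZarSheaf : Prop :=
  ∀ (T : Over S) (𝒰 : Scheme.OpenCover.{u+1} T.left) (x : ∀ k, F.obj (op (Over.mk (𝒰.f k ≫ T.hom)))),
    (∀ (k l : 𝒰.I₀) (T' : Over S) (a : T' ⟶ Over.mk (𝒰.f k ≫ T.hom)) (b : T' ⟶ Over.mk (𝒰.f l ≫ T.hom)),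
      a.left ≫ 𝒰.f k = b.left ≫ 𝒰.f l → F.map a.op (x k) = F.map b.op (x l)) →
    ∃! y : F.obj (op T), ∀ k, F.map (piece 𝒰 k).op y = x k

theorem isZarSheaf_of_fppf (h : Presheaf.IsSheaf (QuotSh.J Scheme.fppfPrecoverage S) F) : IsZarSheaf F := by
  intro T 𝒰 x hx
  have hmem : Sieve.ofArrows _ (piece 𝒰) ∈ (QuotSh.J Scheme.fppfPrecoverage S) T := by
    rw [GrothendieckTopology.mem_over_iff]
    refine GrothendieckTopology.superset_covering _ ?_
      (Precoverage.toGrothendieck_mono Scheme.zariskiPrecoverage_le_fppfPrecoverage _ 𝒰.mem_grothendieckTopology)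
    rw [Sieve.ofArrows, Sieve.generate_le_iff]
    rintro _ _ ⟨k⟩
    rw [Sieve.overEquiv_iff]
    exact ⟨_, 𝟙 _, piece 𝒰 k, ⟨k⟩, Over.OverMorphism.ext (Category.id_comp _)⟩
  have hs := (Presieve.isSheafFor_iff_generate _).2 (((isSheaf_iff_isSheaf_of_type _ _).1 h) _ hmem)
  exact (Presieve.isSheafFor_arrows_iff _ _).1 hs x fun k l W a b hab =>
    hx k l W a b (congrArg CommaMorphism.left hab)

variable {F}

theorem map_congr {T T' : Over S} {g g' : T' ⟶ T} (h : g.left = g'.left) (x : F.obj (op T)) :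
    F.map g.op x = F.map g'.op x := by
  rw [show g = g' from Over.OverMorphism.ext h]

theorem map_map' {A B C : Over S} (g : A ⟶ B) (h : B ⟶ C) (x : F.obj (op C)) :
    F.map g.op (F.map h.op x) = F.map (g ≫ h).op x := by
  rw [op_comp, Functor.map_comp]
  rfl

theorem map_id' {A : Over S} (x : F.obj (op A)) : F.map (𝟙 A).op x = x := by
  rw [op_id, F.map_id]
  rfl

variable (F) in
/-- A section over a scheme. -/
abbrev Pt (T : Scheme.{u}) : Type u := Σ s : T ⟶ S, F.obj (op (Over.mk s))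

/-- Pullback. -/
def Pt.map {T T' : Scheme.{u}} (g : T' ⟶ T) (p : Pt F T) : Pt F T' :=
  ⟨g ≫ p.1, F.map (Over.homMk g rfl : Over.mk (g ≫ p.1) ⟶ Over.mk p.1).op p.2⟩

theorem map_eq_iff {T T' : Scheme.{u}} (g : T' ⟶ T) (p : Pt F T) (q : Pt F T') :
    Pt.map g p = q ↔ ∃ h : g ≫ p.1 = q.1,
      F.map (Over.homMk g h : Over.mk q.1 ⟶ Over.mk p.1).op p.2 = q.2 := by
  obtain ⟨t, J⟩ := q
  constructor
  · intro h
    obtain ⟨rfl, h2⟩ := Sigma.mk.inj_iff.1 h
    exact ⟨rfl, eq_of_heq h2⟩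
  · rintro ⟨h, h₂⟩
    simp only at h
    subst h
    exact Sigma.ext rfl (heq_of_eq h₂)

variable (F) in
/-- The presheaf of sections over all schemes. -/
def presheaf : Scheme.{u}ᵒᵖ ⥤ Type u where
  obj T := Pt F T.unop
  map g := TypeCat.ofHom fun p => Pt.map g.unop p
  map_id T := by
    apply ConcreteCategory.hom_ext
    intro p
    show Pt.map (𝟙 _) p = p
    exact (map_eq_iff _ _ _).2 ⟨Category.id_comp _, (map_congr (g' := 𝟙 _) rfl _).trans (map_id' _)⟩
  map_comp {T T' T''} g g' := by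
    apply ConcreteCategory.hom_ext
    intro p
    show Pt.map (g'.unop ≫ g.unop) p = Pt.map g'.unop (Pt.map g.unop p)
    refine (map_eq_iff _ _ _).2 ⟨Category.assoc _ _ _, ?_⟩
    show F.map _ p.2 = F.map _ (F.map _ p.2)
    exact (map_congr (by rfl) _).trans (map_map' _ _ _).symm

theorem isSheaf_presheaf (hF : IsZarSheaf F) : Presheaf.IsSheaf Scheme.zariskiTopology (presheaf F) := by
  rw [isSheaf_iff_isSheaf_of_type, Precoverage.isSheaf_toGrothendieck_iff_of_isStableUnderBaseChange]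
  intro T R hR
  obtain ⟨(𝒰 : Scheme.OpenCover T), rfl⟩ := Scheme.exists_cover_of_mem_pretopology hR
  refine (Presieve.isSheafFor_arrows_iff _ _).2 fun x hx => ?_
  let p : ∀ k, Pt F (𝒰.X k) := x
  have hp : ∀ {T' : Scheme.{u}} (k l : 𝒰.I₀) (a : T' ⟶ 𝒰.X k) (b : T' ⟶ 𝒰.X l),
      a ≫ 𝒰.f k = b ≫ 𝒰.f l → Pt.map a (p k) = Pt.map b (p l) := fun k l a b hab => hx k l _ a b hab
  let t : T ⟶ S := 𝒰.glueMorphisms (fun k => (p k).1) fun k l =>
    congrArg Sigma.fst (hp k l _ _ pullback.condition)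
  have ht : ∀ k, 𝒰.f k ≫ t = (p k).1 := fun k => 𝒰.ι_glueMorphisms _ _ k
  let I : ∀ k, F.obj (op (Over.mk (𝒰.f k ≫ t))) := fun k =>
    F.map (Over.homMk (𝟙 _) (by simp [ht]) : Over.mk (𝒰.f k ≫ t) ⟶ Over.mk (p k).1).op (p k).2
  have hI : ∀ k l, ∀ (T' : Over S) (a : T' ⟶ Over.mk (𝒰.f k ≫ t)) (b : T' ⟶ Over.mk (𝒰.f l ≫ t)),
      a.left ≫ 𝒰.f k = b.left ≫ 𝒰.f l → F.map a.op (I k) = F.map b.op (I l) := by
    intro k l T' a b hab
    have ha : a.left ≫ (p k).1 = T'.hom := by rw [← ht k]; exact Over.w a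
    have hb : b.left ≫ (p l).1 = T'.hom := by rw [← ht l]; exact Over.w b
    have e₁ : Pt.map a.left (p k) = ⟨T'.hom, F.map (Over.homMk a.left ha : T' ⟶ Over.mk (p k).1).op (p k).2⟩ :=
      (map_eq_iff _ _ _).2 ⟨ha, rfl⟩
    rw [hp k l a.left b.left hab] at e₁
    obtain ⟨_, e₂⟩ := (map_eq_iff _ _ _).1 e₁
    simp only [I, map_map']
    refine (map_congr ?_ _).trans (e₂.symm.trans (map_congr ?_ _))
    · exact Category.comp_id _
    · exact (Category.comp_id _).symm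
  obtain ⟨J, hJ, hJu⟩ := hF (Over.mk t) 𝒰 I hI
  refine ⟨(⟨t, J⟩ : Pt F T), fun k => ?_, fun P hP => ?_⟩
  · show Pt.map (𝒰.f k) ⟨t, J⟩ = p k
    refine (map_eq_iff _ _ _).2 ⟨ht k, ?_⟩
    have h1 := congrArg (fun K => F.map (Over.homMk (𝟙 _) (by simp [ht]) :
      Over.mk (p k).1 ⟶ Over.mk (𝒰.f k ≫ t)).op K) (hJ k)
    simp only [I, map_map'] at h1
    refine (map_congr ?_ _).trans (h1.trans ((map_congr (g' := 𝟙 _) ?_ _).trans (map_id' _)))
    · exact (Category.id_comp _).symm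
    · exact Category.id_comp _
  · obtain ⟨t', J'⟩ := (P : Pt F T)
    have hP' : ∀ k, Pt.map (𝒰.f k) (⟨t', J'⟩ : Pt F T) = p k := hP
    obtain rfl : t' = t := 𝒰.hom_ext _ _ fun k => by
      rw [ht]; exact congrArg Sigma.fst (hP' k)
    refine Sigma.ext rfl (heq_of_eq (hJu J' fun k => ?_))
    obtain ⟨_, e⟩ := (map_eq_iff _ _ _).1 (hP' k)
    simp only [I, ← e, map_map']
    exact map_congr (Category.id_comp _).symm _

variable (F) in
/-- A representable open piece. -/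
structure Chart where
  /-- the representing object -/
  U : Over S
  /-- the universal section -/
  Z : F.obj (op U)
  eq_of_map_eq : ∀ {T : Over S} (h h' : T ⟶ U), F.map h.op Z = F.map h'.op Z → h = h'
  exists_locus : ∀ (T : Over S) (Z' : F.obj (op T)), ∃ O : T.left.Opens, ∀ {T' : Over S} (g : T' ⟶ T),
    (∀ y, g.left y ∈ O) ↔ ∃ h : T' ⟶ U, F.map h.op Z = F.map g.op Z'

/-- The map of a chart to the presheaf of sections. -/
def Chart.toPresheaf (C : Chart F) : yoneda.obj C.U.left ⟶ presheaf F where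
  app T := TypeCat.ofHom fun h => Pt.map h (⟨C.U.hom, C.Z⟩ : Pt F C.U.left)
  naturality {T T'} g := by
    apply ConcreteCategory.hom_ext
    intro h
    exact ConcreteCategory.congr_hom ((presheaf F).map_comp (Quiver.Hom.op h) g)
      (⟨C.U.hom, C.Z⟩ : Pt F C.U.left)

theorem Chart.map_eq_iff' (C : Chart F) {T : Scheme.{u}} (p : Pt F T) {T' : Scheme.{u}}
    (g : T' ⟶ T) (h : T' ⟶ C.U.left) :
    Pt.map h (⟨C.U.hom, C.Z⟩ : Pt F C.U.left) = Pt.map g p ↔ ∃ hh : h ≫ C.U.hom = g ≫ p.1,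
      F.map (Over.homMk h hh : Over.mk (g ≫ p.1) ⟶ C.U).op C.Z =
        F.map (Over.homMk g rfl : Over.mk (g ≫ p.1) ⟶ Over.mk p.1).op p.2 :=
  map_eq_iff _ _ _

theorem Chart.existsUnique_lift (C : Chart F) {T : Scheme.{u}} (p : Pt F T) {O : T.Opens}
    (hO : ∀ {T' : Over S} (g : T' ⟶ Over.mk p.1),
      (∀ y, g.left y ∈ O) ↔ ∃ h : T' ⟶ C.U, F.map h.op C.Z = F.map g.op p.2)
    {T' : Scheme.{u}} (g : T' ⟶ T) (hg : ∀ y, g y ∈ O) :
    ∃! h : T' ⟶ C.U.left, Pt.map h (⟨C.U.hom, C.Z⟩ : Pt F C.U.left) = Pt.map g p := by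
  obtain ⟨h, hh⟩ := (hO (Over.homMk g rfl : Over.mk (g ≫ p.1) ⟶ Over.mk p.1)).1 hg
  refine ⟨h.left, (C.map_eq_iff' p g h.left).2 ⟨Over.w h, (map_congr rfl _).trans hh⟩, fun h' hh' => ?_⟩
  obtain ⟨w, e⟩ := (C.map_eq_iff' p g h').1 hh'
  exact congrArg CommaMorphism.left (C.eq_of_map_eq (T := Over.mk (g ≫ p.1))
    (Over.homMk h' w : Over.mk (g ≫ p.1) ⟶ C.U) h (e.trans hh.symm))

theorem Chart.presheaf_toPresheaf (C : Chart F) : IsOpenImmersion.presheaf C.toPresheaf := by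
  refine MorphismProperty.relative.of_exists fun T η => ?_
  let p : Pt F T := yonedaEquiv η
  obtain ⟨O, hO⟩ := C.exists_locus (Over.mk p.1) p.2
  have hη : ∀ {T' : Scheme.{u}} (a : T' ⟶ T), η.app (op T') a = Pt.map a p := fun a => by
    show _ = (presheaf F).map a.op (yonedaEquiv η)
    rw [yonedaEquiv_naturality]
    show _ = η.app _ (𝟙 _ ≫ a)
    rw [Category.id_comp]
  obtain ⟨b, hb, -⟩ := C.existsUnique_lift p hO O.ι fun y => y.2
  have w : yoneda.map b ≫ C.toPresheaf = yoneda.map O.ι ≫ η := by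
    apply yonedaEquiv.injective
    show Pt.map (𝟙 _ ≫ b) _ = η.app _ (𝟙 _ ≫ O.ι)
    rw [Category.id_comp, Category.id_comp, hη]
    exact hb
  refine ⟨O.toScheme, yoneda.map b, O.ι, ⟨⟨w⟩, ⟨PullbackCone.IsLimit.mk w
    (fun s => { app := fun T' => TypeCat.ofHom fun x => IsOpenImmersion.lift O.ι (s.snd.app T' x) ?_
                naturality := ?_ }) ?_ ?_ ?_⟩⟩, inferInstance⟩
  · rintro _ ⟨z, rfl⟩
    rw [Scheme.Opens.range_ι]
    have h := (congrArg (fun e : s.pt ⟶ presheaf F => e.app T' x) s.condition).trans (hη _)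
    obtain ⟨hw, e⟩ := (C.map_eq_iff' p _ _).1 h
    exact (hO (Over.homMk (s.snd.app T' x) rfl : Over.mk (s.snd.app T' x ≫ p.1) ⟶ Over.mk p.1)).2 ⟨_, e⟩ z
  · intro T' T'' m
    apply ConcreteCategory.hom_ext
    intro x
    show IsOpenImmersion.lift O.ι (s.snd.app T'' (s.pt.map m x)) _ =
      m.unop ≫ IsOpenImmersion.lift O.ι (s.snd.app T' x) _
    rw [← cancel_mono O.ι, Category.assoc, IsOpenImmersion.lift_fac, IsOpenImmersion.lift_fac]
    exact NatTrans.naturality_apply s.snd m x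
  · intro s
    ext T' x
    show IsOpenImmersion.lift O.ι (s.snd.app T' x) _ ≫ b = s.fst.app T' x
    set l := IsOpenImmersion.lift O.ι (s.snd.app T' x) _
    have hl : l ≫ O.ι = s.snd.app T' x := IsOpenImmersion.lift_fac _ _ _
    have h := (congrArg (fun e : s.pt ⟶ presheaf F => e.app T' x) s.condition).trans (hη _)
    have h2 := congrArg (fun e : yoneda.obj O.toScheme ⟶ presheaf F => e.app T' l) w
    refine (C.existsUnique_lift p hO (s.snd.app T' x) fun z => ?_).unique ?_ h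
    · rw [← hl]; exact (l z).2
    · refine h2.trans ?_
      show η.app T' (l ≫ O.ι) = _
      rw [hl]
      exact hη _
  · intro s
    ext T' x
    exact IsOpenImmersion.lift_fac _ _ _
  · intro s m _ h₂
    ext T' x
    show m.app T' x = IsOpenImmersion.lift O.ι (s.snd.app T' x) _
    rw [← cancel_mono O.ι, IsOpenImmersion.lift_fac]
    exact congrArg (fun e : s.pt ⟶ yoneda.obj T => e.app T' x) h₂

/-- A Zariski sheaf covered by representable open pieces is representable. -/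
theorem representable_of_charts (hF : IsZarSheaf F) {κ : Type u} (C : κ → Chart F)
    (hcov : ∀ (T : Over S) (Z : F.obj (op T)) (t : T.left), ∃ (k : κ) (O : T.left.Opens), t ∈ O ∧
      ∃ h : Over.mk (O.ι ≫ T.hom) ⟶ (C k).U, F.map h.op (C k).Z =
        F.map (Over.homMk O.ι rfl : Over.mk (O.ι ≫ T.hom) ⟶ T).op Z) :
    ∃ Z : Over S, Nonempty (F.RepresentableBy Z) := by
  let P : Sheaf Scheme.zariskiTopology (Type u) := ⟨presheaf F, isSheaf_presheaf hF⟩
  let η : ∀ k, yoneda.obj (C k).U.left ⟶ P.1 := fun k => (C k).toPresheaf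
  have : Presheaf.IsLocallySurjective Scheme.zariskiTopology (Sigma.desc η) := ⟨fun {T} s => by
    choose k O htO h hh using hcov (Over.mk (s : Pt F T).1) (s : Pt F T).2
    have htop : IsOpenCover O := top_le_iff.1 fun z _ => Opens.mem_iSup.2 ⟨z, htO z⟩
    refine GrothendieckTopology.superset_covering _ ?_
      (Scheme.openCoverOfIsOpenCover T O htop).mem_grothendieckTopology
    rw [Sieve.ofArrows, Sieve.generate_le_iff]
    rintro _ _ ⟨z⟩
    refine ⟨(Sigma.ι (fun i => yoneda.obj (C i).U.left) (k z)).app _ (h z).left, ?_⟩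
    rw [← NatTrans.comp_app_apply, Sigma.ι_desc]
    exact ((C (k z)).map_eq_iff' (s : Pt F T) (O z).ι (h z).left).2
      ⟨Over.w (h z), (map_congr rfl _).trans (hh z)⟩⟩
  obtain ⟨R, ⟨e⟩⟩ := Scheme.LocalRepresentability.isRepresentable (F := P) (f := η) fun k =>
    (C k).presheaf_toPresheaf
  let ξ : Pt F R := e.homEquiv (𝟙 R)
  have he : ∀ {T : Scheme.{u}} (g : T ⟶ R), e.homEquiv g = Pt.map g ξ := fun g => e.homEquiv_eq g
  have hbij : ∀ T : Over S, Function.Bijective fun g : T ⟶ Over.mk ξ.1 => F.map g.op ξ.2 := by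
    intro T
    refine ⟨fun g g' hg => Over.OverMorphism.ext (e.homEquiv.injective ?_), fun Z' => ?_⟩
    · rw [he, he]
      exact ((map_eq_iff _ _ _).2 ⟨Over.w g, (map_congr rfl _).trans hg⟩ :
        Pt.map g.left ξ = ⟨T.hom, F.map g'.op ξ.2⟩).trans
        ((map_eq_iff _ _ _).2 ⟨Over.w g', map_congr rfl _⟩).symm
    obtain ⟨g, hg⟩ := e.homEquiv.surjective (⟨T.hom, Z'⟩ : Pt F T.left)
    obtain ⟨w, hw⟩ := (map_eq_iff _ _ _).1 ((he g).symm.trans hg)
    exact ⟨Over.homMk g w, (map_congr rfl _).trans hw⟩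
  exact ⟨Over.mk ξ.1, ⟨{
    homEquiv := fun {T} => Equiv.ofBijective _ (hbij T)
    homEquiv_comp := fun a g => (map_map' a g ξ.2).symm }⟩⟩

end Groth.Agent.OverRep16
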